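import Mathlib

set_option linter.style.haveILetI false
set_option linter.unusedVariables false
set_option linter.unusedSectionVars false
set_option autoImplicit false
set_option backward.isDefEq.respectTransparency.types false
set_option synthInstance.maxHeartbeats 400000
set_option maxHeartbeats 1600000

/-!
# Exactness of fibre sequences and base change (helper7)
-/

universe u

open TensorProduct

namespace Groth.Agent.Helper7.FibEx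

theorem exact_iff_of_equiv {A B C A' B' C' : Type*} [Zero C] [Zero C'] (f : A → B) (g : B → C)
    (f' : A' → B') (g' : B' → C') (eA : A ≃ A') (eB : B ≃ B') (eC : C ≃ C') (h0 : eC 0 = 0)
    (h1 : ∀ a, f' (eA a) = eB (f a)) (h2 : ∀ b, g' (eB b) = eC (g b)) :
    Function.Exact f' g' ↔ Function.Exact f g := by
  constructor
  · intro H y
    have key := H (eB y)
    rw [h2] at key
    constructor
    · intro hy
      have h3 : eC (g y) = 0 := by rw [hy, h0]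
      obtain ⟨a', ha'⟩ := key.mp h3
      refine ⟨eA.symm a', eB.injective ?_⟩
      rw [← h1, Equiv.apply_symm_apply, ha']
    · rintro ⟨a, rfl⟩
      have h3 : eB (f a) ∈ Set.range f' := ⟨eA a, h1 a⟩
      have h4 := key.mpr h3
      exact eC.injective (h4.trans h0.symm)
  · intro H y'
    obtain ⟨y, rfl⟩ := eB.surjective y'
    rw [h2]
    constructor
    · intro hy
      have h3 : g y = 0 := eC.injective (hy.trans h0.symm)
      obtain ⟨a, ha⟩ := (H y).mp h3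
      exact ⟨eA a, by rw [h1, ha]⟩
    · rintro ⟨a', ha'⟩
      obtain ⟨a, rfl⟩ := eA.surjective a'
      rw [h1] at ha'
      have h3 : f a = y := eB.injective ha'
      have h4 : g y = 0 := (H y).mpr ⟨a, h3⟩
      rw [h4, h0]

section Abstract

variable {R₁ R₂ k₁ k₂ : Type u} [CommRing R₁] [CommRing R₂] [Algebra R₁ R₂] [Field k₁] [Field k₂]
  [Algebra R₁ k₁] [Algebra R₂ k₂] [Algebra R₁ k₂] [IsScalarTower R₁ R₂ k₂] [Algebra k₁ k₂]
  [IsScalarTower R₁ k₁ k₂]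

section One

variable {X₁ X₂ : Type u} [AddCommGroup X₁] [Module R₁ X₁] [AddCommGroup X₂] [Module R₂ X₂]
  [Module R₁ X₂] [IsScalarTower R₁ R₂ X₂] (h : X₁ →ₗ[R₁] X₂)

variable (R₂ k₂) in
/-- `X₁ → k₂ ⊗[R₂] X₂` -/
noncomputable def alpha : X₁ →ₗ[R₁] k₂ ⊗[R₂] X₂ :=
  ((TensorProduct.mk R₂ k₂ X₂ 1).restrictScalars R₁).comp h

theorem alpha_apply (x : X₁) : alpha R₂ k₂ h x = (1 : k₂) ⊗ₜ[R₂] h x := rfl

theorem isBaseChange_alpha (b : IsBaseChange R₂ h) : IsBaseChange k₂ (alpha R₂ k₂ h) :=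
  IsBaseChange.comp (R := R₁) (S := R₂) (T := k₂) (f := h)
    (g := TensorProduct.mk R₂ k₂ X₂ 1) b (TensorProduct.isBaseChange R₂ X₂ k₂)

variable (R₁ k₁ k₂ X₁) in
/-- `X₁ → k₂ ⊗[k₁] (k₁ ⊗[R₁] X₁)` -/
noncomputable def beta : X₁ →ₗ[R₁] k₂ ⊗[k₁] (k₁ ⊗[R₁] X₁) :=
  ((TensorProduct.mk k₁ k₂ (k₁ ⊗[R₁] X₁) 1).restrictScalars R₁).comp (TensorProduct.mk R₁ k₁ X₁ 1)

theorem beta_apply (x : X₁) :
    beta R₁ k₁ k₂ X₁ x = (1 : k₂) ⊗ₜ[k₁] ((1 : k₁) ⊗ₜ[R₁] x) := rfl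

theorem isBaseChange_beta : IsBaseChange k₂ (beta R₁ k₁ k₂ X₁) :=
  IsBaseChange.comp (R := R₁) (S := k₁) (T := k₂) (f := TensorProduct.mk R₁ k₁ X₁ 1)
    (g := TensorProduct.mk k₁ k₂ (k₁ ⊗[R₁] X₁) 1) (TensorProduct.isBaseChange R₁ X₁ k₁)
    (TensorProduct.isBaseChange k₁ (k₁ ⊗[R₁] X₁) k₂)

/-- comparison of the two base changes -/
noncomputable def cmp (b : IsBaseChange R₂ h) :
    (k₂ ⊗[k₁] (k₁ ⊗[R₁] X₁)) ≃ₗ[k₂] (k₂ ⊗[R₂] X₂) :=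
  (isBaseChange_beta (R₁ := R₁) (k₁ := k₁) (k₂ := k₂) (X₁ := X₁)).equiv.symm ≪≫ₗ (isBaseChange_alpha h b).equiv

theorem cmp_beta (b : IsBaseChange R₂ h) (x : X₁) :
    cmp (k₁ := k₁) h b (beta R₁ k₁ k₂ X₁ x) = alpha R₂ k₂ h x := by
  unfold cmp
  rw [LinearEquiv.trans_apply, IsBaseChange.equiv_symm_apply, IsBaseChange.equiv_tmul, one_smul]

end One

variable {F₁ G₁ H₁ F₂ G₂ H₂ : Type u}
  [AddCommGroup F₁] [Module R₁ F₁] [AddCommGroup G₁] [Module R₁ G₁] [AddCommGroup H₁] [Module R₁ H₁]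
  [AddCommGroup F₂] [Module R₂ F₂] [Module R₁ F₂] [IsScalarTower R₁ R₂ F₂]
  [AddCommGroup G₂] [Module R₂ G₂] [Module R₁ G₂] [IsScalarTower R₁ R₂ G₂]
  [AddCommGroup H₂] [Module R₂ H₂] [Module R₁ H₂] [IsScalarTower R₁ R₂ H₂]

theorem cmp_ladder (u₁ : F₁ →ₗ[R₁] G₁) (u₂ : F₂ →ₗ[R₂] G₂) (hF : F₁ →ₗ[R₁] F₂) (hG : G₁ →ₗ[R₁] G₂)
    (bF : IsBaseChange R₂ hF) (bG : IsBaseChange R₂ hG) (cu : ∀ x, u₂ (hF x) = hG (u₁ x))
    (w : k₂ ⊗[k₁] (k₁ ⊗[R₁] F₁)) :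
    (u₂.baseChange k₂) (cmp (k₁ := k₁) hF bF w) =
      cmp (k₁ := k₁) hG bG (((u₁.baseChange k₁).baseChange k₂) w) := by
  have key : (u₂.baseChange k₂) ∘ₗ (cmp (k₁ := k₁) hF bF).toLinearMap =
      (cmp (k₁ := k₁) hG bG).toLinearMap ∘ₗ ((u₁.baseChange k₁).baseChange k₂) := by
    apply (isBaseChange_beta (R₁ := R₁) (k₁ := k₁) (k₂ := k₂) (X₁ := F₁)).algHom_ext
    intro x
    rw [LinearMap.comp_apply, LinearMap.comp_apply, LinearEquiv.coe_coe, LinearEquiv.coe_coe,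
      cmp_beta, alpha_apply, LinearMap.baseChange_tmul, beta_apply, LinearMap.baseChange_tmul,
      LinearMap.baseChange_tmul, ← beta_apply, cmp_beta, alpha_apply, cu]
  exact LinearMap.congr_fun key w

theorem exact_baseChange_iff (u₁ : F₁ →ₗ[R₁] G₁) (v₁ : G₁ →ₗ[R₁] H₁) (u₂ : F₂ →ₗ[R₂] G₂)
    (v₂ : G₂ →ₗ[R₂] H₂) (hF : F₁ →ₗ[R₁] F₂) (hG : G₁ →ₗ[R₁] G₂) (hH : H₁ →ₗ[R₁] H₂)
    (bF : IsBaseChange R₂ hF) (bG : IsBaseChange R₂ hG) (bH : IsBaseChange R₂ hH)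
    (cu : ∀ x, u₂ (hF x) = hG (u₁ x)) (cv : ∀ x, v₂ (hG x) = hH (v₁ x)) :
    Function.Exact (u₂.baseChange k₂) (v₂.baseChange k₂) ↔
      Function.Exact (u₁.baseChange k₁) (v₁.baseChange k₁) := by
  have h1 : Function.Exact (u₂.baseChange k₂) (v₂.baseChange k₂) ↔
      Function.Exact ((u₁.baseChange k₁).baseChange k₂) ((v₁.baseChange k₁).baseChange k₂) :=
    exact_iff_of_equiv _ _ _ _ (cmp (k₁ := k₁) hF bF).toEquiv (cmp (k₁ := k₁) hG bG).toEquiv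
      (cmp (k₁ := k₁) hH bH).toEquiv (by exact (cmp (k₁ := k₁) hH bH).map_zero)
      (fun w => cmp_ladder u₁ u₂ hF hG bF bG cu w) (fun w => cmp_ladder v₁ v₂ hG hH bG bH cv w)
  rw [h1]
  exact Module.FaithfullyFlat.lTensor_exact_iff_exact (R := k₁) (M := k₂)
    (l12 := u₁.baseChange k₁) (l23 := v₁.baseChange k₁)

end Abstract

section Prime

variable {R₁ R₂ : Type u} [CommRing R₁] [CommRing R₂] [Algebra R₁ R₂]
  {F₁ G₁ H₁ F₂ G₂ H₂ : Type u}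
  [AddCommGroup F₁] [Module R₁ F₁] [AddCommGroup G₁] [Module R₁ G₁] [AddCommGroup H₁] [Module R₁ H₁]
  [AddCommGroup F₂] [Module R₂ F₂] [Module R₁ F₂] [IsScalarTower R₁ R₂ F₂]
  [AddCommGroup G₂] [Module R₂ G₂] [Module R₁ G₂] [IsScalarTower R₁ R₂ G₂]
  [AddCommGroup H₂] [Module R₂ H₂] [Module R₁ H₂] [IsScalarTower R₁ R₂ H₂]

theorem exact_residue_iff (u₁ : F₁ →ₗ[R₁] G₁) (v₁ : G₁ →ₗ[R₁] H₁) (u₂ : F₂ →ₗ[R₂] G₂)
    (v₂ : G₂ →ₗ[R₂] H₂) (hF : F₁ →ₗ[R₁] F₂) (hG : G₁ →ₗ[R₁] G₂) (hH : H₁ →ₗ[R₁] H₂)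
    (bF : IsBaseChange R₂ hF) (bG : IsBaseChange R₂ hG) (bH : IsBaseChange R₂ hH)
    (cu : ∀ x, u₂ (hF x) = hG (u₁ x)) (cv : ∀ x, v₂ (hG x) = hH (v₁ x))
    (p₂ : Ideal R₂) [p₂.IsPrime] :
    Function.Exact (u₂.baseChange p₂.ResidueField) (v₂.baseChange p₂.ResidueField) ↔
      Function.Exact (u₁.baseChange (p₂.under R₁).ResidueField)
        (v₁.baseChange (p₂.under R₁).ResidueField) := by
  letI : Algebra (p₂.under R₁).ResidueField p₂.ResidueField :=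
    (Ideal.ResidueField.map (p₂.under R₁) p₂ (algebraMap R₁ R₂) rfl).toAlgebra
  haveI : IsScalarTower R₁ R₂ p₂.ResidueField := inferInstance
  haveI : IsScalarTower R₁ (p₂.under R₁).ResidueField p₂.ResidueField :=
    IsScalarTower.of_algebraMap_eq (fun r => by
      rw [RingHom.algebraMap_toAlgebra, Ideal.ResidueField.map_algebraMap]
      exact IsScalarTower.algebraMap_apply R₁ R₂ _ r)
  exact exact_baseChange_iff u₁ v₁ u₂ v₂ hF hG hH bF bG bH cu cv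

end Prime

end Groth.Agent.Helper7.FibEx
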