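import Mathlib
import Groth.Agent.Lib.Helper7.FibEx.Base

set_option linter.style.haveILetI false
set_option linter.unusedVariables false
set_option linter.unusedSectionVars false
set_option autoImplicit false
set_option backward.isDefEq.respectTransparency.types false
set_option synthInstance.maxHeartbeats 400000
set_option maxHeartbeats 1600000

/-!
# Matrix presentations and their base change (helper7)
-/

universe u

open TensorProduct

namespace Groth.Agent.Helper7.FibEx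

section Ck

variable {T : Type u} [CommRing T]

/-- cokernel of a matrix acting on row vectors -/
abbrev Ck {a b : ℕ} (Φ : Matrix (Fin a) (Fin b) T) : Type u :=
  (Fin b → T) ⧸ LinearMap.range Φ.vecMulLinear

variable {a₁ b₁ a₂ b₂ : ℕ} {Φ₁ : Matrix (Fin a₁) (Fin b₁) T} {Φ₂ : Matrix (Fin a₂) (Fin b₂) T}
  {U : Matrix (Fin b₁) (Fin b₂) T} {C : Matrix (Fin a₁) (Fin a₂) T}

theorem range_le_comap (h : Φ₁ * U = C * Φ₂) :
    LinearMap.range Φ₁.vecMulLinear ≤
      (LinearMap.range Φ₂.vecMulLinear).comap U.vecMulLinear := by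
  rintro _ ⟨x, rfl⟩
  rw [Submodule.mem_comap]
  refine ⟨Matrix.vecMul x C, ?_⟩
  simp only [Matrix.vecMulLinear_apply, Matrix.vecMul_vecMul, h]

/-- induced map on cokernels -/
noncomputable def ckMap (h : Φ₁ * U = C * Φ₂) : Ck Φ₁ →ₗ[T] Ck Φ₂ :=
  Submodule.mapQ _ _ U.vecMulLinear (range_le_comap h)

theorem ckMap_mk (h : Φ₁ * U = C * Φ₂) (x : Fin b₁ → T) :
    ckMap h (Submodule.Quotient.mk x) = Submodule.Quotient.mk (Matrix.vecMul x U) := rfl

instance {a b : ℕ} (Φ : Matrix (Fin a) (Fin b) T) : Module.FinitePresentation T (Ck Φ) := by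
  apply Module.finitePresentation_of_free_of_surjective (LinearMap.range Φ.vecMulLinear).mkQ
    (Submodule.mkQ_surjective _)
  rw [Submodule.ker_mkQ, LinearMap.range_eq_map]
  exact Submodule.FG.map _ Module.Finite.fg_top

end Ck

section BC

variable {R₁ R₂ P₁ P₂ : Type u} [CommRing R₁] [CommRing R₂] [Algebra R₁ R₂] [CommRing P₁]
  [CommRing P₂] [Algebra R₁ P₁] [Algebra R₂ P₂] [Algebra R₁ P₂] [IsScalarTower R₁ R₂ P₂]
  (μ : P₁ →+* P₂) (hμ : ∀ r : R₁, μ (algebraMap R₁ P₁ r) = algebraMap R₁ P₂ r)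

/-- the ring map as a linear map over the base. -/
noncomputable def muL : P₁ →ₗ[R₁] P₂ where
  toFun := μ
  map_add' := map_add μ
  map_smul' r p := by
    rw [RingHom.id_apply, Algebra.smul_def, map_mul, hμ, ← Algebra.smul_def]

theorem muL_apply (p : P₁) : muL μ hμ p = μ p := rfl

/-- the semilinear coefficient-wise map on vectors -/
noncomputable def piSL (b : ℕ) : (Fin b → P₁) →ₛₗ[μ] (Fin b → P₂) where
  toFun x := fun j => μ (x j)
  map_add' x y := by
    ext j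
    simp
  map_smul' c x := by
    funext j
    simp [smul_eq_mul, map_mul]

theorem piSL_apply (b : ℕ) (x : Fin b → P₁) (j : Fin b) : piSL μ b x j = μ (x j) := rfl

theorem piSL_vecMul {a b : ℕ} (Φ : Matrix (Fin a) (Fin b) P₁) (x : Fin a → P₁) :
    piSL μ b (Matrix.vecMul x Φ) = Matrix.vecMul (piSL μ a x) (Φ.map μ) := by
  funext j
  exact RingHom.map_vecMul μ Φ x j

variable {a b : ℕ} (Φ : Matrix (Fin a) (Fin b) P₁)

/-- the semilinear comparison map of cokernels -/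
noncomputable def ckBCsl : Ck Φ →ₛₗ[μ] Ck (Φ.map μ) :=
  Submodule.mapQ _ _ (piSL μ b) (by
    rintro _ ⟨x, rfl⟩
    rw [Submodule.mem_comap]
    exact ⟨piSL μ a x, by
      rw [Matrix.vecMulLinear_apply, Matrix.vecMulLinear_apply, piSL_vecMul]⟩)

/-- the comparison map of cokernels, linear over the base. -/
noncomputable def ckBC : Ck Φ →ₗ[R₁] Ck (Φ.map μ) where
  toFun := ckBCsl μ Φ
  map_add' := map_add _
  map_smul' r x := by
    rw [← algebraMap_smul P₁ r x, map_smulₛₗ, hμ, algebraMap_smul, RingHom.id_apply]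

theorem ckBC_mk (x : Fin b → P₁) :
    ckBC μ hμ Φ (Submodule.Quotient.mk x) = Submodule.Quotient.mk (piSL μ b x) := rfl

theorem isBaseChange_ckBC (hbc : IsBaseChange R₂ (muL μ hμ)) :
    IsBaseChange R₂ (ckBC μ hμ Φ) := by
  have hb : ∀ c : ℕ, IsBaseChange R₂ ((muL μ hμ).compLeft (Fin c)) := fun c =>
    IsBaseChange.finitePow (Fin c) hbc
  have comm₁ : ((muL μ hμ).compLeft (Fin b)).comp (Φ.vecMulLinear.restrictScalars R₁) =
      (((Φ.map μ).vecMulLinear.restrictScalars R₂).restrictScalars R₁).comp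
        ((muL μ hμ).compLeft (Fin a)) := by
    refine LinearMap.ext fun x => ?_
    exact piSL_vecMul μ Φ x
  have comm₂ : (ckBC μ hμ Φ).comp ((LinearMap.range Φ.vecMulLinear).mkQ.restrictScalars R₁) =
      (((LinearMap.range (Φ.map μ).vecMulLinear).mkQ.restrictScalars R₂).restrictScalars
        R₁).comp ((muL μ hμ).compLeft (Fin b)) := by
    refine LinearMap.ext fun x => ?_
    rfl
  have e1 : Function.Exact (Φ.vecMulLinear.restrictScalars R₁)
      ((LinearMap.range Φ.vecMulLinear).mkQ.restrictScalars R₁) :=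
    LinearMap.exact_map_mkQ_range Φ.vecMulLinear
  have e2 : Function.Exact ((Φ.map μ).vecMulLinear.restrictScalars R₂)
      ((LinearMap.range (Φ.map μ).vecMulLinear).mkQ.restrictScalars R₂) :=
    LinearMap.exact_map_mkQ_range (Φ.map μ).vecMulLinear
  have s1 : Function.Surjective ((LinearMap.range Φ.vecMulLinear).mkQ.restrictScalars R₁) :=
    Submodule.mkQ_surjective (LinearMap.range Φ.vecMulLinear)
  have s2 : Function.Surjective
      ((LinearMap.range (Φ.map μ).vecMulLinear).mkQ.restrictScalars R₂) :=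
    Submodule.mkQ_surjective (LinearMap.range (Φ.map μ).vecMulLinear)
  have key := IsBaseChange.of_right_exact (R := R₁) R₂ (M₁ := Fin a → P₁) (M₂ := Fin b → P₁)
    (M₃ := Ck Φ) (N₁ := Fin a → P₂) (N₂ := Fin b → P₂) (N₃ := Ck (Φ.map μ))
    (f := Φ.vecMulLinear.restrictScalars R₁)
    (g := (LinearMap.range Φ.vecMulLinear).mkQ.restrictScalars R₁)
    (f' := (Φ.map μ).vecMulLinear.restrictScalars R₂)
    (g' := (LinearMap.range (Φ.map μ).vecMulLinear).mkQ.restrictScalars R₂)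
  exact key ((muL μ hμ).compLeft (Fin a)) ((muL μ hμ).compLeft (Fin b)) (ckBC μ hμ Φ) comm₁ comm₂
    (hb a) (hb b) e1 s1 e2 s2

end BC

/-- presentation data for a three term sequence over a ring. -/
@[ext]
structure PD (T : Type u) [CommRing T] (a₁ b₁ a₂ b₂ a₃ b₃ : ℕ) where
  Φ₁ : Matrix (Fin a₁) (Fin b₁) T
  Φ₂ : Matrix (Fin a₂) (Fin b₂) T
  Φ₃ : Matrix (Fin a₃) (Fin b₃) T
  U : Matrix (Fin b₁) (Fin b₂) T
  V : Matrix (Fin b₂) (Fin b₃) T
  C₁ : Matrix (Fin a₁) (Fin a₂) T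
  C₂ : Matrix (Fin a₂) (Fin a₃) T
  h₁ : Φ₁ * U = C₁ * Φ₂
  h₂ : Φ₂ * V = C₂ * Φ₃

namespace PD

variable {T : Type u} [CommRing T] {a₁ b₁ a₂ b₂ a₃ b₃ : ℕ} (d : PD T a₁ b₁ a₂ b₂ a₃ b₃)

/-- the first map of the presented sequence -/
noncomputable def u : Ck d.Φ₁ →ₗ[T] Ck d.Φ₂ := ckMap d.h₁

/-- the second map of the presented sequence -/
noncomputable def v : Ck d.Φ₂ →ₗ[T] Ck d.Φ₃ := ckMap d.h₂

/-- the fibre exactness locus -/
def E (R : Type u) [CommRing R] [Algebra R T] : Set (PrimeSpectrum R) :=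
  {p | Function.Exact ((d.u.restrictScalars R).baseChange p.asIdeal.ResidueField)
    ((d.v.restrictScalars R).baseChange p.asIdeal.ResidueField)}

/-- base change of the data -/
def map {T' : Type u} [CommRing T'] (μ : T →+* T') : PD T' a₁ b₁ a₂ b₂ a₃ b₃ where
  Φ₁ := d.Φ₁.map μ
  Φ₂ := d.Φ₂.map μ
  Φ₃ := d.Φ₃.map μ
  U := d.U.map μ
  V := d.V.map μ
  C₁ := d.C₁.map μ
  C₂ := d.C₂.map μ
  h₁ := by rw [← Matrix.map_mul, ← Matrix.map_mul, d.h₁]
  h₂ := by rw [← Matrix.map_mul, ← Matrix.map_mul, d.h₂]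

theorem E_map {R₁ R₂ P₁ P₂ : Type u} [CommRing R₁] [CommRing R₂] [Algebra R₁ R₂] [CommRing P₁]
    [CommRing P₂] [Algebra R₁ P₁] [Algebra R₂ P₂] [Algebra R₁ P₂] [IsScalarTower R₁ R₂ P₂]
    (μ : P₁ →+* P₂) (hμ : ∀ r : R₁, μ (algebraMap R₁ P₁ r) = algebraMap R₁ P₂ r)
    (hbc : IsBaseChange R₂ (muL μ hμ))
    (d : PD P₁ a₁ b₁ a₂ b₂ a₃ b₃) :
    (d.map μ).E R₂ = PrimeSpectrum.comap (algebraMap R₁ R₂) ⁻¹' d.E R₁ := by
  ext p₂
  have cu : ∀ x, ((d.map μ).u.restrictScalars R₂) (ckBC μ hμ d.Φ₁ x) =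
      ckBC μ hμ d.Φ₂ ((d.u.restrictScalars R₁) x) := by
    intro x
    obtain ⟨y, rfl⟩ := Submodule.Quotient.mk_surjective _ x
    show Submodule.Quotient.mk _ = Submodule.Quotient.mk _
    congr 1
    exact (piSL_vecMul μ d.U y).symm
  have cv : ∀ x, ((d.map μ).v.restrictScalars R₂) (ckBC μ hμ d.Φ₂ x) =
      ckBC μ hμ d.Φ₃ ((d.v.restrictScalars R₁) x) := by
    intro x
    obtain ⟨y, rfl⟩ := Submodule.Quotient.mk_surjective _ x
    show Submodule.Quotient.mk _ = Submodule.Quotient.mk _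
    congr 1
    exact (piSL_vecMul μ d.V y).symm
  have key := exact_residue_iff (R₁ := R₁) (R₂ := R₂) (F₁ := Ck d.Φ₁) (G₁ := Ck d.Φ₂)
    (H₁ := Ck d.Φ₃) (F₂ := Ck (d.map μ).Φ₁) (G₂ := Ck (d.map μ).Φ₂) (H₂ := Ck (d.map μ).Φ₃)
  exact key (d.u.restrictScalars R₁) (d.v.restrictScalars R₁)
    ((d.map μ).u.restrictScalars R₂) ((d.map μ).v.restrictScalars R₂) (ckBC μ hμ d.Φ₁)
    (ckBC μ hμ d.Φ₂) (ckBC μ hμ d.Φ₃) (isBaseChange_ckBC μ hμ d.Φ₁ hbc)
    (isBaseChange_ckBC μ hμ d.Φ₂ hbc) (isBaseChange_ckBC μ hμ d.Φ₃ hbc) cu cv p₂.asIdeal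

end PD

end Groth.Agent.Helper7.FibEx
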