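import Mathlib
import Groth.Agent.Lib.Helper7.FibEx.Pres
import Groth.Agent.Lib.Helper9.GenFree.Main2
import Groth.Agent.S4801

set_option linter.style.haveILetI false
set_option linter.unusedVariables false
set_option linter.unusedSectionVars false
set_option autoImplicit false
set_option backward.isDefEq.respectTransparency.types false
set_option synthInstance.maxHeartbeats 400000
set_option maxHeartbeats 1600000

/-!
# Generic dichotomy for exactness of fibres (helper7)

Over a domain `D`, for a three term sequence of finite modules over a finite type `D`-algebra,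
either almost all fibres are exact or almost all fibres are not exact.
-/

universe u

open TensorProduct

namespace Groth.Agent.Helper7.FibEx

open Groth.Agent.Helper9.GenFree

section Gen

variable (D : Type u) [CommRing D] [IsDomain D]

theorem tmul_eq_tmul_smul {X : Type*} [AddCommGroup X] [Module D X] (k : FractionRing D) (t : X)
    (r : D) (hr : r ≠ 0) :
    k ⊗ₜ[D] t = (k * (algebraMap D (FractionRing D) r)⁻¹) ⊗ₜ[D] (r • t) := by
  have h : algebraMap D (FractionRing D) r ≠ 0 := by
    rw [Ne, map_eq_zero_iff _ (IsFractionRing.injective D (FractionRing D))]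
    exact hr
  rw [TensorProduct.tmul_smul, TensorProduct.smul_tmul', Algebra.smul_def, mul_comm k,
    ← mul_assoc, mul_inv_cancel₀ h, one_mul]

/-- a non torsion element of a finite module over a finite type algebra survives in almost all
fibres -/
theorem exists_ne_zero_tmul (P : Type u) [CommRing P] [Algebra D P] [Algebra.FiniteType D P]
    (C : Type u) [AddCommGroup C] [Module P C] [Module D C] [IsScalarTower D P C]
    [Module.Finite P C] (t₀ : C) (ht : ∀ r : D, r • t₀ = 0 → r = 0) :
    ∃ f : D, f ≠ 0 ∧ ∀ p : PrimeSpectrum D, f ∉ p.asIdeal →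
      (1 : p.asIdeal.ResidueField) ⊗ₜ[D] t₀ ≠ 0 := by
  have hgp : GoodPair D D P := goodPair_of_finiteType' (goodRing_self' D) P
  obtain ⟨a, ha, ι, b, hb⟩ := hgp C (Submodule.span D {t₀}) (Submodule.fg_span_singleton t₀)
  refine ⟨a, ha, fun p hp h0 => ?_⟩
  let incl : D →ₗ[D] C := LinearMap.toSpanSingleton D C t₀
  let π : C →ₗ[D] C ⧸ Submodule.span D {t₀} := (Submodule.span D {t₀}).mkQ
  have hincl : Function.Injective incl := by
    rw [injective_iff_map_eq_zero]
    intro r hr
    exact ht r hr
  have hπ : Function.Surjective π := Submodule.mkQ_surjective (Submodule.span D {t₀})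
  have hex : Function.Exact incl π := by
    rw [LinearMap.exact_iff, Submodule.ker_mkQ, LinearMap.span_singleton_eq_range]
  have hunit : IsUnit (algebraMap D p.asIdeal.ResidueField a) := by
    rw [isUnit_iff_ne_zero, Ne, Ideal.algebraMap_residueField_eq_zero]
    exact hp
  have hinj := Groth.Agent.S4801.Aux.lTensor_injective_of_isABasis incl π hincl hπ hex hb
    p.asIdeal.ResidueField hunit
  have h1 : incl.lTensor p.asIdeal.ResidueField
      ((1 : p.asIdeal.ResidueField) ⊗ₜ[D] (1 : D)) = 0 := by
    rw [LinearMap.lTensor_tmul]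
    show (1 : p.asIdeal.ResidueField) ⊗ₜ[D] ((1 : D) • t₀) = 0
    rw [one_smul]
    exact h0
  have h2 : (1 : p.asIdeal.ResidueField) ⊗ₜ[D] (1 : D) = 0 := hinj (by rw [h1, map_zero])
  have h3 := congrArg (TensorProduct.rid D p.asIdeal.ResidueField) h2
  rw [TensorProduct.rid_tmul, one_smul, map_zero] at h3
  exact one_ne_zero h3

end Gen

section Dich

variable {D : Type u} [CommRing D] [IsDomain D] {P : Type u} [CommRing P] [Algebra D P]
  {F G H : Type u} [AddCommGroup F] [Module P F] [Module D F] [IsScalarTower D P F]
  [AddCommGroup G] [Module P G] [Module D G] [IsScalarTower D P G]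
  [AddCommGroup H] [Module P H] [Module D H] [IsScalarTower D P H]
  (u : F →ₗ[P] G) (v : G →ₗ[P] H)

theorem vu_zero_of_torsion (h : ∀ x : F, ∃ r : D, r ≠ 0 ∧ r • v (u x) = 0)
    (w : FractionRing D ⊗[D] F) :
    ((v.restrictScalars D).baseChange (FractionRing D))
      (((u.restrictScalars D).baseChange (FractionRing D)) w) = 0 := by
  induction w using TensorProduct.induction_on with
  | zero => rw [map_zero, map_zero]
  | tmul k x =>
    obtain ⟨r, hr, hr0⟩ := h x
    rw [LinearMap.baseChange_tmul, LinearMap.baseChange_tmul]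
    show k ⊗ₜ[D] v (u x) = 0
    rw [tmul_eq_tmul_smul D k _ r hr, hr0, TensorProduct.tmul_zero]
  | add w1 w2 h1 h2 => rw [map_add, map_add, h1, h2, add_zero]

theorem mem_range_of_torsion
    (h : ∀ z : G, v z = 0 → ∃ r : D, r ≠ 0 ∧ r • z ∈ LinearMap.range u)
    (y : FractionRing D ⊗[D] G)
    (hy : ((v.restrictScalars D).baseChange (FractionRing D)) y = 0) :
    y ∈ Set.range ((u.restrictScalars D).baseChange (FractionRing D)) := by
  haveI : Module.Flat D (FractionRing D) := IsLocalization.flat _ (nonZeroDivisors D)
  let j : LinearMap.ker v →ₗ[D] G := (LinearMap.ker v).subtype.restrictScalars D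
  have hex : Function.Exact j (v.restrictScalars D) := LinearMap.exact_subtype_ker_map v
  have hex' := Module.Flat.lTensor_exact (FractionRing D) hex
  have hy' : ((v.restrictScalars D).lTensor (FractionRing D)) y = 0 := by
    rw [← LinearMap.baseChange_eq_ltensor]
    exact hy
  obtain ⟨w, rfl⟩ := (hex' y).mp hy'
  clear hy hy'
  show _ ∈ LinearMap.range ((u.restrictScalars D).baseChange (FractionRing D))
  induction w using TensorProduct.induction_on with
  | zero =>
    rw [map_zero]
    exact Submodule.zero_mem _
  | tmul k z =>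
    obtain ⟨r, hr, x, hx⟩ := h z.1 (LinearMap.mem_ker.mp z.2)
    refine ⟨(k * (algebraMap D (FractionRing D) r)⁻¹) ⊗ₜ[D] x, ?_⟩
    rw [LinearMap.baseChange_tmul, LinearMap.lTensor_tmul]
    show _ ⊗ₜ[D] u x = k ⊗ₜ[D] z.1
    rw [hx, ← tmul_eq_tmul_smul D k _ r hr]
  | add w1 w2 h1 h2 =>
    rw [map_add]
    exact Submodule.add_mem _ h1 h2

/-- **Generic dichotomy**: almost all fibres are exact, or almost all fibres are not exact. -/
theorem generic_dichotomy [Algebra.FiniteType D P] [Module.Finite P G] [Module.Finite P H] :
    ∃ f : D, f ≠ 0 ∧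
      ((∀ p : PrimeSpectrum D, f ∉ p.asIdeal →
        Function.Exact ((u.restrictScalars D).baseChange p.asIdeal.ResidueField)
          ((v.restrictScalars D).baseChange p.asIdeal.ResidueField)) ∨
      (∀ p : PrimeSpectrum D, f ∉ p.asIdeal →
        ¬ Function.Exact ((u.restrictScalars D).baseChange p.asIdeal.ResidueField)
          ((v.restrictScalars D).baseChange p.asIdeal.ResidueField))) := by
  by_cases hgen : Function.Exact ((u.restrictScalars D).baseChange (FractionRing D))
      ((v.restrictScalars D).baseChange (FractionRing D))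
  · obtain ⟨f, hf0, hf⟩ := Groth.Agent.S4801.Aux.main_k u v hgen
    refine ⟨f, hf0, Or.inl fun p hp => hf p.asIdeal.ResidueField ?_⟩
    rw [isUnit_iff_ne_zero, Ne, Ideal.algebraMap_residueField_eq_zero]
    exact hp
  · by_cases h1 : ∀ x : F, ∃ r : D, r ≠ 0 ∧ r • v (u x) = 0
    · by_cases h2 : ∀ z : G, v z = 0 → ∃ r : D, r ≠ 0 ∧ r • z ∈ LinearMap.range u
      · exfalso
        apply hgen
        intro y
        constructor
        · exact mem_range_of_torsion u v h2 y
        · rintro ⟨w, rfl⟩
          exact vu_zero_of_torsion u v h1 w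
      · obtain ⟨z₀, hz⟩ := Classical.not_forall.mp h2
        obtain ⟨hz₀, hne⟩ := Classical.not_imp.mp hz
        have ht : ∀ r : D, r • (Submodule.Quotient.mk z₀ : G ⧸ LinearMap.range u) = 0 →
            r = 0 := by
          intro r hr
          by_contra hr0
          apply hne
          refine ⟨r, hr0, ?_⟩
          rwa [← Submodule.Quotient.mk_smul, Submodule.Quotient.mk_eq_zero] at hr
        obtain ⟨f, hf0, hf⟩ := exists_ne_zero_tmul D P (G ⧸ LinearMap.range u)
          (Submodule.Quotient.mk z₀) ht
        refine ⟨f, hf0, Or.inr fun p hp hex => hf p hp ?_⟩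
        have hv0 : ((v.restrictScalars D).baseChange p.asIdeal.ResidueField)
            ((1 : p.asIdeal.ResidueField) ⊗ₜ[D] z₀) = 0 := by
          rw [LinearMap.baseChange_tmul]
          show (1 : p.asIdeal.ResidueField) ⊗ₜ[D] v z₀ = 0
          rw [hz₀, TensorProduct.tmul_zero]
        obtain ⟨w, hw⟩ := (hex _).mp hv0
        let q : G →ₗ[D] G ⧸ LinearMap.range u := (LinearMap.range u).mkQ.restrictScalars D
        have hq : ∀ w, (q.baseChange p.asIdeal.ResidueField)
            (((u.restrictScalars D).baseChange p.asIdeal.ResidueField) w) = 0 := by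
          intro w
          induction w using TensorProduct.induction_on with
          | zero => rw [map_zero, map_zero]
          | tmul k x =>
            rw [LinearMap.baseChange_tmul, LinearMap.baseChange_tmul]
            have hqu : q ((u.restrictScalars D) x) = 0 := by
              show (LinearMap.range u).mkQ (u x) = 0
              rw [Submodule.mkQ_apply, Submodule.Quotient.mk_eq_zero]
              exact LinearMap.mem_range_self u x
            rw [hqu, TensorProduct.tmul_zero]
          | add w1 w2 h1 h2 => rw [map_add, map_add, h1, h2, add_zero]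
        have h3 := hq w
        rw [hw, LinearMap.baseChange_tmul] at h3
        exact h3
    · obtain ⟨x₀, hx₀⟩ := Classical.not_forall.mp h1
      have ht : ∀ r : D, r • v (u x₀) = 0 → r = 0 := by
        intro r hr
        by_contra hr0
        exact hx₀ ⟨r, hr0, hr⟩
      obtain ⟨f, hf0, hf⟩ := exists_ne_zero_tmul D P H (v (u x₀)) ht
      refine ⟨f, hf0, Or.inr fun p hp hex => hf p hp ?_⟩
      have h3 := hex.apply_apply_eq_zero ((1 : p.asIdeal.ResidueField) ⊗ₜ[D] x₀)
      rw [LinearMap.baseChange_tmul, LinearMap.baseChange_tmul] at h3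
      exact h3

end Dich

end Groth.Agent.Helper7.FibEx
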