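import Mathlib
import Groth.Agent.Lib.Helper7.FibEx.Gen
import Groth.Agent.Lib.Helper7.GRLocus.Alg

set_option linter.style.haveILetI false
set_option linter.unusedVariables false
set_option linter.unusedSectionVars false
set_option autoImplicit false
set_option backward.isDefEq.respectTransparency.types false
set_option synthInstance.maxHeartbeats 400000
set_option maxHeartbeats 1600000

/-!
# Constructibility of the locus of exact fibres (helper7)
-/

universe u

open TensorProduct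

namespace Groth.Agent.Helper7.FibEx

section Poly

variable (R₁ R₂ : Type u) [CommRing R₁] [CommRing R₂] [Algebra R₁ R₂] (n : ℕ)

/-- coefficientwise map of polynomial rings -/
noncomputable abbrev pmu : MvPolynomial (Fin n) R₁ →+* MvPolynomial (Fin n) R₂ :=
  MvPolynomial.map (algebraMap R₁ R₂)

theorem pmu_algebraMap (r : R₁) :
    pmu R₁ R₂ n (algebraMap R₁ (MvPolynomial (Fin n) R₁) r) =
      algebraMap R₁ (MvPolynomial (Fin n) R₂) r := by
  rw [MvPolynomial.algebraMap_apply, MvPolynomial.algebraMap_apply, Algebra.algebraMap_self,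
    RingHom.id_apply, MvPolynomial.map_C]

theorem isBaseChange_pmu : IsBaseChange R₂ (muL (pmu R₁ R₂ n) (pmu_algebraMap R₁ R₂ n)) := by
  apply IsBaseChange.of_equiv (MvPolynomial.algebraTensorAlgEquiv R₁ R₂).toLinearEquiv
  intro x
  show (MvPolynomial.algebraTensorAlgEquiv R₁ R₂) ((1 : R₂) ⊗ₜ[R₁] x) = _
  rw [MvPolynomial.algebraTensorAlgEquiv_tmul, one_smul]
  rfl

end Poly

section Noeth

theorem isConstructible_E_of_noetherian {R₁ : Type u} [CommRing R₁] [IsNoetherianRing R₁] (n : ℕ)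
    {a₁ b₁ a₂ b₂ a₃ b₃ : ℕ} (d : PD (MvPolynomial (Fin n) R₁) a₁ b₁ a₂ b₂ a₃ b₃) :
    Topology.IsConstructible (d.E R₁) := by
  classical
  apply GRLocus.isConstructible_of_forall_irreducible_or
  intro Y hY hYirr
  let p₀ : Ideal R₁ := PrimeSpectrum.vanishingIdeal Y
  haveI hp₀ : p₀.IsPrime := (PrimeSpectrum.isIrreducible_iff_vanishingIdeal_isPrime).mp hYirr
  have hYeq : Y = PrimeSpectrum.zeroLocus (p₀ : Set R₁) := by
    rw [PrimeSpectrum.zeroLocus_vanishingIdeal_eq_closure, hY.closure_eq]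
  have hEmap := PD.E_map (R₁ := R₁) (R₂ := R₁ ⧸ p₀) (pmu R₁ (R₁ ⧸ p₀) n)
    (pmu_algebraMap R₁ (R₁ ⧸ p₀) n) (isBaseChange_pmu R₁ (R₁ ⧸ p₀) n) d
  obtain ⟨f', hf'0, hf'⟩ := generic_dichotomy (D := R₁ ⧸ p₀)
    (P := MvPolynomial (Fin n) (R₁ ⧸ p₀)) (d.map (pmu R₁ (R₁ ⧸ p₀) n)).u
    (d.map (pmu R₁ (R₁ ⧸ p₀) n)).v
  obtain ⟨a, rfl⟩ := Ideal.Quotient.mk_surjective f'
  have ha : a ∉ p₀ := fun h => hf'0 (Ideal.Quotient.eq_zero_iff_mem.mpr h)
  have hp₀Y : (⟨p₀, hp₀⟩ : PrimeSpectrum R₁) ∈ Y := by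
    rw [hYeq, PrimeSpectrum.mem_zeroLocus]
  have hq' : ∀ q : PrimeSpectrum R₁, q ∈ (PrimeSpectrum.basicOpen a : Set _) ∩ Y →
      ∃ q' : PrimeSpectrum (R₁ ⧸ p₀),
        PrimeSpectrum.comap (algebraMap R₁ (R₁ ⧸ p₀)) q' = q ∧
          Ideal.Quotient.mk p₀ a ∉ q'.asIdeal := by
    rintro q ⟨hqa, hqY⟩
    rw [hYeq] at hqY
    have hq1 : q ∈ Set.range (PrimeSpectrum.comap (Ideal.Quotient.mk p₀)) := by
      rw [range_comap_of_surjective _ _ Ideal.Quotient.mk_surjective, Ideal.mk_ker]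
      exact hqY
    obtain ⟨q', rfl⟩ := hq1
    exact ⟨q', rfl, fun h => hqa h⟩
  refine ⟨PrimeSpectrum.basicOpen a, (PrimeSpectrum.basicOpen a).isOpen,
    ⟨⟨p₀, hp₀⟩, ha, hp₀Y⟩, ?_⟩
  rcases hf' with h | h
  · left
    intro q hq
    obtain ⟨q', rfl, hq'a⟩ := hq' q hq
    have h1 : q' ∈ (d.map (pmu R₁ (R₁ ⧸ p₀) n)).E (R₁ ⧸ p₀) := h q' hq'a
    rw [hEmap] at h1
    exact h1
  · right
    intro q hq hqE
    obtain ⟨q', rfl, hq'a⟩ := hq' q hq
    apply h q' hq'a
    have h1 : q' ∈ (d.map (pmu R₁ (R₁ ⧸ p₀) n)).E (R₁ ⧸ p₀) := by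
      rw [hEmap]
      exact hqE
    exact h1

end Noeth

section Descent

/-- the set of all coefficients of all entries of a polynomial matrix -/
def coeffSet {R : Type u} [CommRing R] {n a b : ℕ}
    (M : Matrix (Fin a) (Fin b) (MvPolynomial (Fin n) R)) : Set R :=
  ⋃ i, ⋃ j, ((M i j).coeffs : Set R)

theorem coeffSet_finite {R : Type u} [CommRing R] {n a b : ℕ}
    (M : Matrix (Fin a) (Fin b) (MvPolynomial (Fin n) R)) : (coeffSet M).Finite :=
  Set.finite_iUnion fun i => Set.finite_iUnion fun j => Finset.finite_toSet _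

theorem exists_lift_matrix {R : Type u} [CommRing R] {n : ℕ} (S : Subalgebra ℤ R) {a b : ℕ}
    (M : Matrix (Fin a) (Fin b) (MvPolynomial (Fin n) R)) (h : coeffSet M ⊆ S) :
    ∃ M₀ : Matrix (Fin a) (Fin b) (MvPolynomial (Fin n) S), M₀.map (pmu S R n) = M := by
  have h1 : ∀ i j, ∃ p₀ : MvPolynomial (Fin n) S, pmu S R n p₀ = M i j := by
    intro i j
    have h2 : M i j ∈ Set.range (MvPolynomial.map (algebraMap S R)) := by
      rw [MvPolynomial.mem_range_map_iff_coeffs_subset]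
      intro c hc
      have hcS : c ∈ (S : Set R) :=
        h (Set.mem_iUnion.mpr ⟨i, Set.mem_iUnion.mpr ⟨j, hc⟩⟩)
      exact ⟨⟨c, hcS⟩, rfl⟩
    exact h2
  choose M₀ hM₀ using h1
  exact ⟨Matrix.of M₀, Matrix.ext fun i j => hM₀ i j⟩

theorem exists_noetherian_model {R : Type u} [CommRing R] (n : ℕ) {a₁ b₁ a₂ b₂ a₃ b₃ : ℕ}
    (d : PD (MvPolynomial (Fin n) R) a₁ b₁ a₂ b₂ a₃ b₃) :
    ∃ (S : Subalgebra ℤ R) (_ : IsNoetherianRing S)
      (d₀ : PD (MvPolynomial (Fin n) S) a₁ b₁ a₂ b₂ a₃ b₃), d₀.map (pmu S R n) = d := by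
  classical
  let s : Set R := coeffSet d.Φ₁ ∪ coeffSet d.Φ₂ ∪ coeffSet d.Φ₃ ∪ coeffSet d.U ∪ coeffSet d.V ∪
    coeffSet d.C₁ ∪ coeffSet d.C₂
  have hs : s.Finite :=
    ((((((coeffSet_finite _).union (coeffSet_finite _)).union (coeffSet_finite _)).union
      (coeffSet_finite _)).union (coeffSet_finite _)).union (coeffSet_finite _)).union
      (coeffSet_finite _)
  let S : Subalgebra ℤ R := Algebra.adjoin ℤ s
  have hsS : s ⊆ S := Algebra.subset_adjoin
  have e1 : coeffSet d.Φ₁ ⊆ s := fun x hx => by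
    simp only [s, Set.mem_union]; tauto
  have e2 : coeffSet d.Φ₂ ⊆ s := fun x hx => by
    simp only [s, Set.mem_union]; tauto
  have e3 : coeffSet d.Φ₃ ⊆ s := fun x hx => by
    simp only [s, Set.mem_union]; tauto
  have e4 : coeffSet d.U ⊆ s := fun x hx => by
    simp only [s, Set.mem_union]; tauto
  have e5 : coeffSet d.V ⊆ s := fun x hx => by
    simp only [s, Set.mem_union]; tauto
  have e6 : coeffSet d.C₁ ⊆ s := fun x hx => by
    simp only [s, Set.mem_union]; tauto
  have e7 : coeffSet d.C₂ ⊆ s := fun x hx => by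
    simp only [s, Set.mem_union]; tauto
  obtain ⟨Φ₁, hΦ₁⟩ := exists_lift_matrix S d.Φ₁ (e1.trans hsS)
  obtain ⟨Φ₂, hΦ₂⟩ := exists_lift_matrix S d.Φ₂ (e2.trans hsS)
  obtain ⟨Φ₃, hΦ₃⟩ := exists_lift_matrix S d.Φ₃ (e3.trans hsS)
  obtain ⟨U, hU⟩ := exists_lift_matrix S d.U (e4.trans hsS)
  obtain ⟨V, hV⟩ := exists_lift_matrix S d.V (e5.trans hsS)
  obtain ⟨C₁, hC₁⟩ := exists_lift_matrix S d.C₁ (e6.trans hsS)
  obtain ⟨C₂, hC₂⟩ := exists_lift_matrix S d.C₂ (e7.trans hsS)
  have hinj : Function.Injective (pmu S R n) :=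
    MvPolynomial.map_injective _ Subtype.val_injective
  have h₁ : Φ₁ * U = C₁ * Φ₂ := by
    apply Matrix.map_injective hinj
    show (Φ₁ * U).map (pmu S R n) = (C₁ * Φ₂).map (pmu S R n)
    rw [Matrix.map_mul, Matrix.map_mul, hΦ₁, hU, hC₁, hΦ₂]
    exact d.h₁
  have h₂ : Φ₂ * V = C₂ * Φ₃ := by
    apply Matrix.map_injective hinj
    show (Φ₂ * V).map (pmu S R n) = (C₂ * Φ₃).map (pmu S R n)
    rw [Matrix.map_mul, Matrix.map_mul, hΦ₂, hV, hC₂, hΦ₃]
    exact d.h₂
  have hnoeth : IsNoetherianRing S := by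
    have hfg : S.FG := Subalgebra.fg_def.mpr ⟨s, hs, rfl⟩
    haveI : Algebra.FiniteType ℤ S := (Subalgebra.fg_iff_finiteType S).mp hfg
    exact Algebra.FiniteType.isNoetherianRing ℤ S
  exact ⟨S, hnoeth, ⟨Φ₁, Φ₂, Φ₃, U, V, C₁, C₂, h₁, h₂⟩, PD.ext hΦ₁ hΦ₂ hΦ₃ hU hV hC₁ hC₂⟩

theorem isConstructible_E {R : Type u} [CommRing R] (n : ℕ) {a₁ b₁ a₂ b₂ a₃ b₃ : ℕ}
    (d : PD (MvPolynomial (Fin n) R) a₁ b₁ a₂ b₂ a₃ b₃) :
    Topology.IsConstructible (d.E R) := by
  obtain ⟨S, hS, d₀, rfl⟩ := exists_noetherian_model n d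
  rw [PD.E_map (R₁ := S) (R₂ := R) (pmu S R n) (pmu_algebraMap S R n) (isBaseChange_pmu S R n) d₀]
  exact GRLocus.isConstructible_preimage_comap _ (isConstructible_E_of_noetherian n d₀)

end Descent

section Reduce

variable {T : Type u} [CommRing T]

theorem exists_vecMulLinear_eq {a b : ℕ} (g : (Fin a → T) →ₗ[T] (Fin b → T)) :
    ∃ Φ : Matrix (Fin a) (Fin b) T, Φ.vecMulLinear = g := by
  refine ⟨LinearMap.toMatrixRight' g, ?_⟩
  have h : Matrix.toLinearMapRight' (LinearMap.toMatrixRight' g) = g :=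
    LinearEquiv.symm_apply_apply _ g
  refine LinearMap.ext fun x => ?_
  rw [Matrix.vecMulLinear_apply, ← Matrix.toLinearMapRight'_apply, h]

theorem eq_of_vecMulLinear_eq {a b : ℕ} {M N : Matrix (Fin a) (Fin b) T}
    (h : M.vecMulLinear = N.vecMulLinear) : M = N := by
  apply Matrix.toLinearMapRight'.injective
  refine LinearMap.ext fun x => ?_
  rw [Matrix.toLinearMapRight'_apply, Matrix.toLinearMapRight'_apply]
  exact LinearMap.congr_fun h x

theorem exists_lift_matrices {X Y : Type u} [AddCommGroup X] [Module T X] [AddCommGroup Y]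
    [Module T Y] {aX bX aY bY : ℕ} (ΦX : Matrix (Fin aX) (Fin bX) T)
    (ΦY : Matrix (Fin aY) (Fin bY) T) (fX : (Fin bX → T) →ₗ[T] X) (fY : (Fin bY → T) →ₗ[T] Y)
    (hfY : Function.Surjective fY) (hX : Function.Exact ΦX.vecMulLinear fX)
    (hY : Function.Exact ΦY.vecMulLinear fY) (w : X →ₗ[T] Y) :
    ∃ (U : Matrix (Fin bX) (Fin bY) T) (C : Matrix (Fin aX) (Fin aY) T),
      ΦX * U = C * ΦY ∧ ∀ x, fY (Matrix.vecMul x U) = w (fX x) := by
  obtain ⟨Ul, hUl⟩ := Module.projective_lifting_property fY (w ∘ₗ fX) hfY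
  obtain ⟨U, rfl⟩ := exists_vecMulLinear_eq Ul
  have hmem : ∀ x, (U.vecMulLinear ∘ₗ ΦX.vecMulLinear) x ∈ LinearMap.range ΦY.vecMulLinear := by
    intro x
    rw [← LinearMap.exact_iff.mp hY, LinearMap.mem_ker, LinearMap.comp_apply]
    have h1 := LinearMap.congr_fun hUl (ΦX.vecMulLinear x)
    rw [LinearMap.comp_apply, LinearMap.comp_apply] at h1
    rw [h1, hX.apply_apply_eq_zero, map_zero]
  obtain ⟨Cl, hCl⟩ := Module.projective_lifting_property ΦY.vecMulLinear.rangeRestrict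
    ((U.vecMulLinear ∘ₗ ΦX.vecMulLinear).codRestrict _ hmem)
    (LinearMap.surjective_rangeRestrict _)
  obtain ⟨C, rfl⟩ := exists_vecMulLinear_eq Cl
  refine ⟨U, C, ?_, ?_⟩
  · apply eq_of_vecMulLinear_eq
    refine LinearMap.ext fun x => ?_
    rw [Matrix.vecMulLinear_apply, Matrix.vecMulLinear_apply, ← Matrix.vecMul_vecMul,
      ← Matrix.vecMul_vecMul]
    have h1 := congrArg Subtype.val (LinearMap.congr_fun hCl x)
    exact h1.symm
  · intro x
    exact LinearMap.congr_fun hUl x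

/-- the cokernel of a presentation matrix is the presented module -/
noncomputable def ckEquiv {X : Type u} [AddCommGroup X] [Module T X] {a b : ℕ}
    (Φ : Matrix (Fin a) (Fin b) T) (f : (Fin b → T) →ₗ[T] X) (hf : Function.Surjective f)
    (hex : Function.Exact Φ.vecMulLinear f) : Ck Φ ≃ₗ[T] X :=
  (Submodule.quotEquivOfEq _ _ (LinearMap.exact_iff.mp hex).symm).trans
    (f.quotKerEquivOfSurjective hf)

theorem ckEquiv_mk {X : Type u} [AddCommGroup X] [Module T X] {a b : ℕ}
    (Φ : Matrix (Fin a) (Fin b) T) (f : (Fin b → T) →ₗ[T] X) (hf : Function.Surjective f)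
    (hex : Function.Exact Φ.vecMulLinear f) (x : Fin b → T) :
    ckEquiv Φ f hf hex (Submodule.Quotient.mk x) = f x := rfl

theorem exact_baseChange_of_equiv {R : Type u} [CommRing R] (k : Type u) [CommRing k] [Algebra R k]
    {F G H F' G' H' : Type u} [AddCommGroup F] [Module R F] [AddCommGroup G] [Module R G]
    [AddCommGroup H] [Module R H] [AddCommGroup F'] [Module R F'] [AddCommGroup G'] [Module R G']
    [AddCommGroup H'] [Module R H']
    (u : F →ₗ[R] G) (v : G →ₗ[R] H) (u' : F' →ₗ[R] G') (v' : G' →ₗ[R] H')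
    (eF : F' ≃ₗ[R] F) (eG : G' ≃ₗ[R] G) (eH : H' ≃ₗ[R] H)
    (cu : ∀ x, u (eF x) = eG (u' x)) (cv : ∀ x, v (eG x) = eH (v' x)) :
    Function.Exact (u.baseChange k) (v.baseChange k) ↔
      Function.Exact (u'.baseChange k) (v'.baseChange k) := by
  have ku : ((u.baseChange k).restrictScalars R) ∘ₗ
      (TensorProduct.congr (LinearEquiv.refl R k) eF).toLinearMap =
      (TensorProduct.congr (LinearEquiv.refl R k) eG).toLinearMap ∘ₗ
        ((u'.baseChange k).restrictScalars R) := by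
    apply TensorProduct.ext'
    intro c x
    simp only [LinearMap.comp_apply, LinearEquiv.coe_coe, LinearMap.coe_restrictScalars,
      TensorProduct.congr_tmul, LinearMap.baseChange_tmul, LinearEquiv.refl_apply, cu]
  have kv : ((v.baseChange k).restrictScalars R) ∘ₗ
      (TensorProduct.congr (LinearEquiv.refl R k) eG).toLinearMap =
      (TensorProduct.congr (LinearEquiv.refl R k) eH).toLinearMap ∘ₗ
        ((v'.baseChange k).restrictScalars R) := by
    apply TensorProduct.ext'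
    intro c x
    simp only [LinearMap.comp_apply, LinearEquiv.coe_coe, LinearMap.coe_restrictScalars,
      TensorProduct.congr_tmul, LinearMap.baseChange_tmul, LinearEquiv.refl_apply, cv]
  exact exact_iff_of_equiv (u'.baseChange k) (v'.baseChange k) (u.baseChange k) (v.baseChange k)
    (TensorProduct.congr (LinearEquiv.refl R k) eF).toEquiv
    (TensorProduct.congr (LinearEquiv.refl R k) eG).toEquiv
    (TensorProduct.congr (LinearEquiv.refl R k) eH).toEquiv
    (map_zero (TensorProduct.congr (LinearEquiv.refl R k) eH))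
    (fun a => LinearMap.congr_fun ku a) (fun b => LinearMap.congr_fun kv b)

theorem main_poly {R : Type u} [CommRing R] (n : ℕ) {F G H : Type u}
    [AddCommGroup F] [Module (MvPolynomial (Fin n) R) F] [Module R F]
    [IsScalarTower R (MvPolynomial (Fin n) R) F]
    [Module.FinitePresentation (MvPolynomial (Fin n) R) F]
    [AddCommGroup G] [Module (MvPolynomial (Fin n) R) G] [Module R G]
    [IsScalarTower R (MvPolynomial (Fin n) R) G]
    [Module.FinitePresentation (MvPolynomial (Fin n) R) G]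
    [AddCommGroup H] [Module (MvPolynomial (Fin n) R) H] [Module R H]
    [IsScalarTower R (MvPolynomial (Fin n) R) H]
    [Module.FinitePresentation (MvPolynomial (Fin n) R) H]
    (u : F →ₗ[MvPolynomial (Fin n) R] G) (v : G →ₗ[MvPolynomial (Fin n) R] H) :
    Topology.IsConstructible {p : PrimeSpectrum R |
      Function.Exact ((u.restrictScalars R).baseChange p.asIdeal.ResidueField)
        ((v.restrictScalars R).baseChange p.asIdeal.ResidueField)} := by
  obtain ⟨b₁, a₁, f₁, g₁, hf₁, hg₁⟩ :=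
    Module.FinitePresentation.exists_fin' (MvPolynomial (Fin n) R) F
  obtain ⟨b₂, a₂, f₂, g₂, hf₂, hg₂⟩ :=
    Module.FinitePresentation.exists_fin' (MvPolynomial (Fin n) R) G
  obtain ⟨b₃, a₃, f₃, g₃, hf₃, hg₃⟩ :=
    Module.FinitePresentation.exists_fin' (MvPolynomial (Fin n) R) H
  obtain ⟨Φ₁, rfl⟩ := exists_vecMulLinear_eq g₁
  obtain ⟨Φ₂, rfl⟩ := exists_vecMulLinear_eq g₂
  obtain ⟨Φ₃, rfl⟩ := exists_vecMulLinear_eq g₃
  obtain ⟨U, C₁, h₁, hU⟩ := exists_lift_matrices Φ₁ Φ₂ f₁ f₂ hf₂ hg₁ hg₂ u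
  obtain ⟨V, C₂, h₂, hV⟩ := exists_lift_matrices Φ₂ Φ₃ f₂ f₃ hf₃ hg₂ hg₃ v
  let d : PD (MvPolynomial (Fin n) R) a₁ b₁ a₂ b₂ a₃ b₃ := ⟨Φ₁, Φ₂, Φ₃, U, V, C₁, C₂, h₁, h₂⟩
  have cu : ∀ x : Ck Φ₁, (u.restrictScalars R) (((ckEquiv Φ₁ f₁ hf₁ hg₁).restrictScalars R) x) =
      ((ckEquiv Φ₂ f₂ hf₂ hg₂).restrictScalars R) ((d.u.restrictScalars R) x) := by
    intro x
    obtain ⟨y, rfl⟩ := Submodule.Quotient.mk_surjective _ x
    show u (f₁ y) = f₂ (Matrix.vecMul y U)
    exact (hU y).symm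
  have cv : ∀ x : Ck Φ₂, (v.restrictScalars R) (((ckEquiv Φ₂ f₂ hf₂ hg₂).restrictScalars R) x) =
      ((ckEquiv Φ₃ f₃ hf₃ hg₃).restrictScalars R) ((d.v.restrictScalars R) x) := by
    intro x
    obtain ⟨y, rfl⟩ := Submodule.Quotient.mk_surjective _ x
    show v (f₂ y) = f₃ (Matrix.vecMul y V)
    exact (hV y).symm
  have hE : {p : PrimeSpectrum R |
      Function.Exact ((u.restrictScalars R).baseChange p.asIdeal.ResidueField)
        ((v.restrictScalars R).baseChange p.asIdeal.ResidueField)} = d.E R := by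
    ext p
    exact exact_baseChange_of_equiv p.asIdeal.ResidueField (u.restrictScalars R)
      (v.restrictScalars R) (d.u.restrictScalars R) (d.v.restrictScalars R)
      ((ckEquiv Φ₁ f₁ hf₁ hg₁).restrictScalars R) ((ckEquiv Φ₂ f₂ hf₂ hg₂).restrictScalars R)
      ((ckEquiv Φ₃ f₃ hf₃ hg₃).restrictScalars R) cu cv
  rw [hE]
  exact isConstructible_E n d

/-- **Constructibility of the locus of exact fibres.** -/
theorem main {R B : Type u} [CommRing R] [CommRing B] [Algebra R B]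
    [Algebra.FinitePresentation R B]
    {F G H : Type u} [AddCommGroup F] [Module B F] [Module R F] [IsScalarTower R B F]
    [Module.FinitePresentation B F]
    [AddCommGroup G] [Module B G] [Module R G] [IsScalarTower R B G]
    [Module.FinitePresentation B G]
    [AddCommGroup H] [Module B H] [Module R H] [IsScalarTower R B H]
    [Module.FinitePresentation B H]
    (u : F →ₗ[B] G) (v : G →ₗ[B] H) :
    Topology.IsConstructible {p : PrimeSpectrum R |
      Function.Exact ((u.restrictScalars R).baseChange p.asIdeal.ResidueField)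
        ((v.restrictScalars R).baseChange p.asIdeal.ResidueField)} := by
  obtain ⟨n, π, hπ, hker⟩ := Algebra.FinitePresentation.out (R := R) (A := B)
  letI algPB : Algebra (MvPolynomial (Fin n) R) B := π.toRingHom.toAlgebra
  haveI : IsScalarTower R (MvPolynomial (Fin n) R) B :=
    IsScalarTower.of_algebraMap_eq (fun r => (π.commutes r).symm)
  haveI fpB : Module.FinitePresentation (MvPolynomial (Fin n) R) B := by
    apply Module.finitePresentation_of_surjective
      (Algebra.linearMap (MvPolynomial (Fin n) R) B) hπ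
    have hk : LinearMap.ker (Algebra.linearMap (MvPolynomial (Fin n) R) B) =
        RingHom.ker π.toRingHom := by
      ext x
      rfl
    rw [hk]
    exact hker
  -- the module structures over the polynomial ring
  letI mF : Module (MvPolynomial (Fin n) R) F :=
    Module.compHom F (algebraMap (MvPolynomial (Fin n) R) B)
  haveI tF : IsScalarTower (MvPolynomial (Fin n) R) B F := ⟨fun a b l => by
    change (a • b) • l = (algebraMap (MvPolynomial (Fin n) R) B a) • (b • l)
    rw [Algebra.smul_def, mul_smul]⟩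
  haveI tF' : IsScalarTower R (MvPolynomial (Fin n) R) F := ⟨fun r a l => by
    change algebraMap (MvPolynomial (Fin n) R) B (r • a) • l =
      r • (algebraMap (MvPolynomial (Fin n) R) B a • l)
    rw [Algebra.smul_def, map_mul, ← IsScalarTower.algebraMap_apply, mul_smul, algebraMap_smul]⟩
  haveI fpF : Module.FinitePresentation (MvPolynomial (Fin n) R) F :=
    Module.FinitePresentation.trans (MvPolynomial (Fin n) R) F B
  letI mG : Module (MvPolynomial (Fin n) R) G :=
    Module.compHom G (algebraMap (MvPolynomial (Fin n) R) B)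
  haveI tG : IsScalarTower (MvPolynomial (Fin n) R) B G := ⟨fun a b l => by
    change (a • b) • l = (algebraMap (MvPolynomial (Fin n) R) B a) • (b • l)
    rw [Algebra.smul_def, mul_smul]⟩
  haveI tG' : IsScalarTower R (MvPolynomial (Fin n) R) G := ⟨fun r a l => by
    change algebraMap (MvPolynomial (Fin n) R) B (r • a) • l =
      r • (algebraMap (MvPolynomial (Fin n) R) B a • l)
    rw [Algebra.smul_def, map_mul, ← IsScalarTower.algebraMap_apply, mul_smul, algebraMap_smul]⟩
  haveI fpG : Module.FinitePresentation (MvPolynomial (Fin n) R) G :=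
    Module.FinitePresentation.trans (MvPolynomial (Fin n) R) G B
  letI mH : Module (MvPolynomial (Fin n) R) H :=
    Module.compHom H (algebraMap (MvPolynomial (Fin n) R) B)
  haveI tH : IsScalarTower (MvPolynomial (Fin n) R) B H := ⟨fun a b l => by
    change (a • b) • l = (algebraMap (MvPolynomial (Fin n) R) B a) • (b • l)
    rw [Algebra.smul_def, mul_smul]⟩
  haveI tH' : IsScalarTower R (MvPolynomial (Fin n) R) H := ⟨fun r a l => by
    change algebraMap (MvPolynomial (Fin n) R) B (r • a) • l =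
      r • (algebraMap (MvPolynomial (Fin n) R) B a • l)
    rw [Algebra.smul_def, map_mul, ← IsScalarTower.algebraMap_apply, mul_smul, algebraMap_smul]⟩
  haveI fpH : Module.FinitePresentation (MvPolynomial (Fin n) R) H :=
    Module.FinitePresentation.trans (MvPolynomial (Fin n) R) H B
  exact main_poly n (u.restrictScalars (MvPolynomial (Fin n) R))
    (v.restrictScalars (MvPolynomial (Fin n) R))

end Reduce

end Groth.Agent.Helper7.FibEx
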